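import Cfsg.Agent.H966.TI.Ext

/-!
# `k(N(P)/P) = 40` for `J₄`, `p = 11` (S4819, S4820, [LOC])

`card_NP` : if `Eleven D` then the normaliser quotient of every Sylow 11-subgroup of order 1331 has 40 classes.
-/

set_option autoImplicit false
set_option linter.unusedSectionVars false

open scoped Pointwise

namespace Cfsg.Agent.H966.TI

open Cfsg.Agent.H265.J4LP Subgroup

variable {G : Type*} [Group G] [Finite G] {D : Data11 G} (E : Eleven D)

include E

theorem z_pow : D.z ^ 11 = 1 := by rw [← E.ord_z]; exact pow_orderOf_eq_one _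

theorem z_powmod {m n : ℕ} (h : m % 11 = n % 11) : D.z ^ m = D.z ^ n := by
  rw [← pow_mod_orderOf, ← pow_mod_orderOf D.z n, E.ord_z, h]

omit E [Finite G] in
theorem phi_pow (s : SL) : D.phi s ^ 24 = 1 := by
  have h : ∀ s : SL, s ^ 24 = 1 := by decide +kernel
  rw [← map_pow, h, map_one]

theorem P_pow {u : G} (hu : u ∈ D.P) : u ^ 1331 = 1 := by
  have h := pow_card_eq_one' (x := (⟨u, hu⟩ : D.P))
  rw [E.card_P] at h
  exact congrArg Subtype.val h

theorem phi_notMem {s : SL} (h : D.phi s ∈ D.P) : s = 1 := by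
  apply E.phi_inj
  rw [map_one, ← orderOf_eq_one_iff, ← Nat.dvd_one]
  have h1 := orderOf_dvd_of_pow_eq_one (phi_pow (D := D) s)
  have h2 := orderOf_dvd_of_pow_eq_one (P_pow E h)
  exact (show Nat.gcd 24 1331 = 1 by norm_num) ▸ Nat.dvd_gcd h1 h2

/-- `C(z) = P φ(SL)` -/
theorem mem_cent {c : G} (hc : c * D.z = D.z * c) : ∃ u ∈ D.P, ∃ s, c = u * D.phi s := by
  have h0 : D.rep 0 = D.z := rfl
  have h1 := E.card_cent 0
  rw [h0] at h1
  change Nat.card (centralizer ({D.z} : Set G)) = 31944 at h1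
  let f : D.P × SL → centralizer ({D.z} : Set G) := fun p => ⟨p.1 * D.phi p.2, by
    rw [mem_centralizer_singleton_iff, mul_assoc, ← E.z_phi, ← mul_assoc, ← mul_assoc, E.z_comm _ p.1.2]⟩
  have hf : Function.Injective f := by
    rintro ⟨u, s⟩ ⟨u', s'⟩ he
    have he' : (u : G) * D.phi s = u' * D.phi s' := congrArg Subtype.val he
    have h2 : D.phi (s * s'⁻¹) = (u : G)⁻¹ * u' := by
      rw [map_mul, map_inv, eq_inv_mul_iff_mul_eq, ← mul_assoc, he', mul_inv_cancel_right]
    have h3 := phi_notMem E (by rw [h2]; exact mul_mem (inv_mem u.2) u'.2)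
    have h4 : s = s' := mul_inv_eq_one.1 h3
    subst h4
    rw [Subtype.ext (mul_right_cancel he')]
  have hcard : Nat.card (D.P × SL) = Nat.card (centralizer ({D.z} : Set G)) := by
    have h2 : Nat.card SL = 24 := by
      rw [Nat.card_eq_fintype_card]
      decide +kernel
    rw [Nat.card_prod, E.card_P, h1, h2]
  obtain ⟨⟨u, s⟩, h2⟩ := ((Nat.bijective_iff_injective_and_card f).2 ⟨hf, hcard⟩).2 ⟨c, mem_centralizer_singleton_iff.2 hc⟩
  exact ⟨u, u.2, s, (congrArg Subtype.val h2).symm⟩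

/-- elements of 11-power order of `C(z)` lie in `P` -/
theorem mem_P_of_cent {c : G} (hc : c * D.z = D.z * c) (hp : c ^ 1331 = 1) : c ∈ D.P := by
  obtain ⟨u, hu, s, rfl⟩ := mem_cent E hc
  -- `(u φ(s))^m ∈ P φ(s^m)`
  have h1 : ∀ m : ℕ, ∃ v ∈ D.P, (u * D.phi s) ^ m = v * D.phi (s ^ m) := by
    intro m
    induction m with
    | zero => exact ⟨1, one_mem _, by rw [pow_zero, pow_zero, map_one, mul_one]⟩
    | succ m ih =>
      obtain ⟨v, hv, e⟩ := ih
      refine ⟨v * (D.phi (s ^ m) * u * (D.phi (s ^ m))⁻¹), mul_mem hv (E.norm_P _ _ hu), ?_⟩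
      rw [pow_succ, e, pow_succ, map_mul]
      group
  obtain ⟨v, hv, e⟩ := h1 1331
  rw [hp] at e
  have h2 : D.phi (s ^ 1331) ∈ D.P := by
    have : D.phi (s ^ 1331) = v⁻¹ := (eq_inv_of_mul_eq_one_right e.symm)
    rw [this]
    exact inv_mem hv
  have h3 := phi_notMem E h2
  have h4 : s = 1 := by
    have : ∀ s : SL, s ^ 1331 = 1 → s = 1 := by
      intro s hs
      have h24 : s ^ 24 = 1 := (by decide +kernel : ∀ s : SL, s ^ 24 = 1) s
      rw [← orderOf_eq_one_iff, ← Nat.dvd_one]
      exact (show Nat.gcd 24 1331 = 1 by norm_num) ▸ Nat.dvd_gcd (orderOf_dvd_of_pow_eq_one h24)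
        (orderOf_dvd_of_pow_eq_one hs)
    exact this s h3
  rw [h4, map_one, mul_one]
  exact hu

/-- `N(P)` acts on `⟨z⟩` -/
theorem conj_z_mem {c : G} (hc : c ∈ normalizer (D.P : Set G)) : c * D.z * c⁻¹ ∈ zpowers D.z := by
  by_contra hcon
  have h1 : c * D.z * c⁻¹ ∈ D.P := (mem_normalizer_iff.1 hc D.z).1 E.z_mem
  obtain ⟨b, hb⟩ := isConj_iff.1 (E.conj_x _ h1 hcon)
  have h2 : Nat.card (centralizer ({D.z} : Set G)) = Nat.card (centralizer ({D.x} : Set G)) := by
    have e : (b * c) * D.z * (b * c)⁻¹ = D.x := by rw [← hb]; group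
    refine Nat.card_congr
      { toFun := fun y => ⟨(b * c) * y * (b * c)⁻¹, ?_⟩
        invFun := fun y => ⟨(b * c)⁻¹ * y * (b * c), ?_⟩
        left_inv := fun y => Subtype.ext (by simp [mul_assoc])
        right_inv := fun y => Subtype.ext (by simp [mul_assoc]) }
    · rw [mem_centralizer_singleton_iff, ← e]
      have := mem_centralizer_singleton_iff.1 y.2
      calc (b * c) * y * (b * c)⁻¹ * ((b * c) * D.z * (b * c)⁻¹) = (b * c) * (y * D.z) * (b * c)⁻¹ := by group
        _ = (b * c) * (D.z * y) * (b * c)⁻¹ := by rw [this]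
        _ = _ := by group
    · rw [mem_centralizer_singleton_iff]
      have := mem_centralizer_singleton_iff.1 y.2
      calc (b * c)⁻¹ * y * (b * c) * D.z = (b * c)⁻¹ * (y * ((b * c) * D.z * (b * c)⁻¹)) * (b * c) := by group
        _ = (b * c)⁻¹ * (y * D.x) * (b * c) := by rw [e]
        _ = (b * c)⁻¹ * (D.x * y) * (b * c) := by rw [this]
        _ = (b * c)⁻¹ * (((b * c) * D.z * (b * c)⁻¹) * y) * (b * c) := by rw [e]
        _ = _ := by group
  have h3 := E.card_cent 0
  have h4 := E.card_cent 1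
  rw [show D.rep 0 = D.z from rfl] at h3
  rw [show D.rep 1 = D.x from rfl] at h4
  rw [h2, h4] at h3
  exact absurd h3 (by decide)

/-- an element mapping a power of `z` to `z` normalises `P` -/
theorem mem_norm {c : G} {w : G} (hw : w ∈ zpowers D.z) (h : c * w * c⁻¹ = D.z) : c ∈ normalizer (D.P : Set G) := by
  refine mem_normalizer_fintype fun v hv => ?_
  have h1 : v * w = w * v := by
    obtain ⟨k, rfl⟩ := mem_zpowers_iff.1 hw
    exact ((show Commute v D.z from (E.z_comm v hv).symm).zpow_right k)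
  refine mem_P_of_cent E ?_ ?_
  · rw [← h]
    calc c * v * c⁻¹ * (c * w * c⁻¹) = c * (v * w) * c⁻¹ := by group
      _ = c * (w * v) * c⁻¹ := by rw [h1]
      _ = _ := by group
  · rw [conj_pow, P_pow E hv]
    group

/-- the exponent -/
theorem exists_exp {c : G} (hc : c ∈ normalizer (D.P : Set G)) : ∃ a : ZMod 11, c * D.z * c⁻¹ = D.z ^ a.val := by
  classical
  have h1 := conj_z_mem E hc
  rw [mem_zpowers_iff_mem_range_orderOf, Finset.mem_image] at h1
  obtain ⟨k, hk, e⟩ := h1
  rw [Finset.mem_range, E.ord_z] at hk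
  refine ⟨(k : ZMod 11), ?_⟩
  rw [← e, ZMod.val_natCast, Nat.mod_eq_of_lt hk]

theorem z_val_inj {a b : ZMod 11} (h : D.z ^ a.val = D.z ^ b.val) : a = b := by
  have h1 := pow_inj_mod.1 h
  rw [E.ord_z, Nat.mod_eq_of_lt (ZMod.val_lt a), Nat.mod_eq_of_lt (ZMod.val_lt b)] at h1
  exact ZMod.val_injective 11 h1

/-- the action on `⟨z⟩` -/
noncomputable def pi0 : normalizer (D.P : Set G) →* ZMod 11 where
  toFun c := (exists_exp E c.2).choose
  map_one' := by
    apply z_val_inj E
    rw [← (exists_exp E (1 : normalizer (D.P : Set G)).2).choose_spec]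
    have : ((1 : normalizer (D.P : Set G)) : G) = 1 := rfl
    rw [this, one_mul, inv_one, mul_one, show (1 : ZMod 11).val = 1 from rfl, pow_one]
  map_mul' a b := by
    apply z_val_inj E
    rw [← (exists_exp E (a * b).2).choose_spec]
    have ha := (exists_exp E a.2).choose_spec
    have hb := (exists_exp E b.2).choose_spec
    have h1 : ((a * b : normalizer (D.P : Set G)) : G) = a * b := rfl
    rw [h1]
    calc (a : G) * b * D.z * ((a : G) * b)⁻¹ = a * (b * D.z * (b : G)⁻¹) * (a : G)⁻¹ := by group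
      _ = a * D.z ^ (exists_exp E b.2).choose.val * (a : G)⁻¹ := by rw [← hb]
      _ = (a * D.z * (a : G)⁻¹) ^ (exists_exp E b.2).choose.val := by rw [conj_pow]
      _ = (D.z ^ (exists_exp E a.2).choose.val) ^ (exists_exp E b.2).choose.val := by rw [← ha]
      _ = D.z ^ ((exists_exp E a.2).choose * (exists_exp E b.2).choose).val := by
        rw [← pow_mul]
        apply z_powmod E
        rw [ZMod.val_mul, Nat.mod_mod]

theorem pi0_spec (c : normalizer (D.P : Set G)) : (c : G) * D.z * (c : G)⁻¹ = D.z ^ (pi0 E c).val :=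
  (exists_exp E c.2).choose_spec

theorem pi0_eq {c : normalizer (D.P : Set G)} {a : ZMod 11} (h : (c : G) * D.z * (c : G)⁻¹ = D.z ^ a.val) :
    pi0 E c = a := z_val_inj E (by rw [← pi0_spec, h])

theorem pi0_one {c : normalizer (D.P : Set G)} (h : (c : G) * D.z = D.z * c) : pi0 E c = 1 := by
  apply pi0_eq
  rw [h, mul_inv_cancel_right, show (1 : ZMod 11).val = 1 from rfl, pow_one]

/-- the quotient `N(P)/P` -/
abbrev NQ (P : Subgroup G) : Type _ := ↥(normalizer (P : Set G)) ⧸ P.subgroupOf (normalizer (P : Set G))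

instance (P : Subgroup G) : (P.subgroupOf (normalizer (P : Set G))).Normal := Subgroup.normal_in_normalizer

/-- the action on `⟨z⟩` -/
noncomputable def pi1 : NQ D.P →* (ZMod 11)ˣ :=
  QuotientGroup.lift _ (pi0 E).toHomUnits fun c hc => by
    apply Units.ext
    rw [MonoidHom.coe_toHomUnits, Units.val_one]
    exact pi0_one E (E.z_comm _ (mem_subgroupOf.1 hc)).symm

theorem phi_norm (s : SL) : D.phi s ∈ normalizer (D.P : Set G) :=
  mem_normalizer_fintype fun v hv => E.norm_P s v hv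

/-- `SL(2,3)` in the quotient -/
noncomputable def phi1 : SL →* NQ D.P :=
  (QuotientGroup.mk' _).comp (D.phi.codRestrict (normalizer (D.P : Set G)) (phi_norm E))

theorem phi1_apply (s : SL) : phi1 E s = QuotientGroup.mk ⟨D.phi s, phi_norm E s⟩ := rfl

theorem pi1_mk (c : normalizer (D.P : Set G)) : ((pi1 E (QuotientGroup.mk c) : (ZMod 11)ˣ) : ZMod 11) = pi0 E c := rfl

theorem phi1_inj : Function.Injective (phi1 E) := by
  rw [injective_iff_map_eq_one]
  intro s hs
  rw [phi1_apply, QuotientGroup.eq_one_iff, mem_subgroupOf] at hs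
  exact phi_notMem E hs

theorem pi1_ker (q : NQ D.P) : pi1 E q = 1 ↔ q ∈ (phi1 E).range := by
  obtain ⟨c, rfl⟩ := QuotientGroup.mk_surjective q
  constructor
  · intro h
    have h1 : pi0 E c = 1 := by rw [← pi1_mk, h, Units.val_one]
    have h2 := pi0_spec E c
    rw [h1, show (1 : ZMod 11).val = 1 from rfl, pow_one, mul_inv_eq_iff_eq_mul] at h2
    obtain ⟨u, hu, s, e⟩ := mem_cent E h2
    refine ⟨s, ?_⟩
    rw [phi1_apply, QuotientGroup.eq, mem_subgroupOf]
    show (D.phi s)⁻¹ * (c : G) ∈ D.P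
    rw [e]
    have := E.norm_P s⁻¹ u hu
    rw [map_inv, inv_inv] at this
    rwa [← mul_assoc]
  · rintro ⟨s, hs⟩
    apply Units.ext
    rw [← hs, phi1_apply, pi1_mk, Units.val_one]
    exact pi0_one E (E.z_phi s).symm

/-- the action on `SL(2,3)` -/
theorem act (u : (ZMod 11)ˣ) (s : SL) : ∃ q, pi1 E q = u ∧ q * phi1 E s * q⁻¹ = phi1 E (fu u s) := by
  -- a conjugating element
  have h0 : IsConj (D.z ^ ((u⁻¹ : (ZMod 11)ˣ) : ZMod 11).val * D.phi s) (D.z * D.phi (fu u s)) := by
    unfold fu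
    split_ifs with h
    · refine E.pow_sq s _ ?_
      revert h u
      decide +kernel
    · refine E.pow_nsq s _ ?_
      revert h u
      decide +kernel
  obtain ⟨c, hc⟩ := isConj_iff.1 h0
  generalize hk : ((u⁻¹ : (ZMod 11)ˣ) : ZMod 11).val = k at hc
  -- the 11-part and the other part
  have key : ∀ (m : ℕ) (s : SL), (D.z ^ m * D.phi s) ^ 144 = D.z ^ m ∧ (D.z ^ m * D.phi s) ^ 121 = D.phi s := by
    intro m s
    have hcm : Commute (D.z ^ m) (D.phi s) := (show Commute D.z (D.phi s) from E.z_phi s).pow_left m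
    rw [hcm.mul_pow, hcm.mul_pow]
    have e1 : (D.z ^ m) ^ 144 = D.z ^ m := by
      rw [← pow_mul]
      exact z_powmod E (by omega)
    have e2 : (D.z ^ m) ^ 121 = 1 := by
      rw [← pow_mul, ← pow_zero D.z]
      exact z_powmod E (by omega)
    have e3 : D.phi s ^ 144 = 1 := by
      rw [show 144 = 24 * 6 by norm_num, pow_mul, phi_pow, one_pow]
    have e4 : D.phi s ^ 121 = D.phi s := by
      rw [show 121 = 24 * 5 + 1 by norm_num, pow_succ, pow_mul, phi_pow, one_pow, one_mul]
    rw [e1, e2, e3, e4, mul_one, one_mul]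
    exact ⟨rfl, rfl⟩
  have hz : c * D.z ^ k * c⁻¹ = D.z := by
    have h1 := congrArg (· ^ 144) hc
    simp only [conj_pow] at h1
    have h2 := (key 1 (fu u s)).1
    rw [pow_one] at h2
    rwa [(key k s).1, h2] at h1
  have hs : c * D.phi s * c⁻¹ = D.phi (fu u s) := by
    have h1 := congrArg (· ^ 121) hc
    simp only [conj_pow] at h1
    have h2 := (key 1 (fu u s)).2
    rw [pow_one] at h2
    rwa [(key k s).2, h2] at h1
  have hcN : c ∈ normalizer (D.P : Set G) := mem_norm E (pow_mem (mem_zpowers D.z) k) hz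
  refine ⟨QuotientGroup.mk ⟨c, hcN⟩, ?_, ?_⟩
  · apply Units.ext
    rw [pi1_mk]
    apply pi0_eq
    show c * D.z * c⁻¹ = _
    -- `c z c⁻¹ = c z^(k u) c⁻¹ = z^u`
    have h1 : D.z = (D.z ^ k) ^ (u : ZMod 11).val := by
      rw [← pow_mul]
      have h2 : (k * (u : ZMod 11).val) % 11 = 1 % 11 := by
        rw [← hk, ← ZMod.val_mul, ← Units.val_mul, inv_mul_cancel]
        rfl
      rw [z_powmod E h2, pow_one]
    have h3 : c * D.z * c⁻¹ = c * (D.z ^ k) ^ (u : ZMod 11).val * c⁻¹ := by rw [← h1]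
    rw [h3, ← conj_pow, hz]
  · rw [phi1_apply, phi1_apply, ← QuotientGroup.mk_inv, ← QuotientGroup.mk_mul, ← QuotientGroup.mk_mul]
    congr 1
    exact Subtype.ext hs

/-- **`k(N(P)/P) = 40`** -/
theorem card_NQ : Nat.card (ConjClasses (NQ D.P)) = 40 :=
  card_classes (pi1 E) (phi1 E) (phi1_inj E) (pi1_ker E) (act E)

omit E [Finite G] in
/-- transport by conjugation -/
theorem card_NQ_congr {P P' : Subgroup G} {g : G} (h : MulAut.conj g • P = P') :
    Nat.card (ConjClasses (NQ P)) = Nat.card (ConjClasses (NQ P')) := by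
  have hP : ∀ x, x ∈ P' ↔ g⁻¹ * x * g ∈ P := by
    intro x
    rw [← h, mem_pointwise_smul_iff_inv_smul_mem, ← map_inv, MulAut.smul_def, MulAut.conj_apply, inv_inv]
  have hN : ∀ x, x ∈ normalizer (P' : Set G) ↔ g⁻¹ * x * g ∈ normalizer (P : Set G) := by
    intro x
    rw [mem_normalizer_iff, mem_normalizer_iff]
    constructor
    · intro hx y
      have h1 := hx (g * y * g⁻¹)
      rw [hP, hP] at h1
      have e1 : g⁻¹ * (g * y * g⁻¹) * g = y := by group
      have e2 : g⁻¹ * (x * (g * y * g⁻¹) * x⁻¹) * g = (g⁻¹ * x * g) * y * (g⁻¹ * x * g)⁻¹ := by group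
      rwa [e1, e2] at h1
    · intro hx y
      have h1 := hx (g⁻¹ * y * g)
      rw [hP, hP]
      have e2 : g⁻¹ * (x * y * x⁻¹) * g = (g⁻¹ * x * g) * (g⁻¹ * y * g) * (g⁻¹ * x * g)⁻¹ := by group
      rw [e2]
      exact h1
  let e : normalizer (P : Set G) ≃* normalizer (P' : Set G) :=
    { toFun := fun x => ⟨g * x * g⁻¹, (hN _).2 (by
        have : g⁻¹ * (g * (x : G) * g⁻¹) * g = x := by group
        rw [this]; exact x.2)⟩
      invFun := fun x => ⟨g⁻¹ * x * g, (hN _).1 x.2⟩
      left_inv := fun x => Subtype.ext (by simp [mul_assoc])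
      right_inv := fun x => Subtype.ext (by simp [mul_assoc])
      map_mul' := fun x y => Subtype.ext (by simp [mul_assoc]) }
  have he : (P.subgroupOf (normalizer (P : Set G))).map (e : normalizer (P : Set G) →* normalizer (P' : Set G)) =
      P'.subgroupOf (normalizer (P' : Set G)) := by
    ext x
    constructor
    · rintro ⟨y, hy, rfl⟩
      rw [mem_subgroupOf]
      show g * (y : G) * g⁻¹ ∈ P'
      rw [hP]
      have : g⁻¹ * (g * (y : G) * g⁻¹) * g = y := by group
      rw [this]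
      exact hy
    · intro hx
      refine ⟨e.symm x, ?_, e.apply_symm_apply x⟩
      show g⁻¹ * (x : G) * g ∈ P
      exact (hP _).1 hx
  have e2 : NQ P ≃* NQ P' := QuotientGroup.congr _ _ e he
  exact Nat.card_congr
    { toFun := ConjClasses.map e2.toMonoidHom
      invFun := ConjClasses.map e2.symm.toMonoidHom
      left_inv := by
        intro c
        obtain ⟨c, rfl⟩ := ConjClasses.mk_surjective c
        exact congrArg ConjClasses.mk (e2.symm_apply_apply c)
      right_inv := by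
        intro c
        obtain ⟨c, rfl⟩ := ConjClasses.mk_surjective c
        exact congrArg ConjClasses.mk (e2.apply_symm_apply c) }

/-- **[LOC] for `J₄`** -/
theorem card_NP [Fact (Nat.Prime 11)] (P : Sylow 11 G) (hP : Nat.card (P : Subgroup G) = 1331) :
    Nat.card (ConjClasses ((normalizer ((P : Subgroup G) : Set G)) ⧸
      ((P : Subgroup G).subgroupOf (normalizer ((P : Subgroup G) : Set G))))) = 40 := by
  -- `D.P` is a Sylow subgroup
  have h1 : IsPGroup 11 D.P := IsPGroup.of_card (n := 3) (by rw [E.card_P]; norm_num)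
  obtain ⟨P', hP'⟩ := h1.exists_le_sylow
  have h2 : Nat.card (P' : Subgroup G) = 1331 := by rw [← hP]; exact Nat.card_congr (P'.equiv P).toEquiv
  have h3 : D.P = P' := by
    refine Subgroup.eq_of_le_of_card_ge hP' ?_
    rw [h2, E.card_P]
  obtain ⟨g, hg⟩ := MulAction.exists_smul_eq G P' P
  have h4 : MulAut.conj g • D.P = (P : Subgroup G) := by
    rw [h3, ← hg]
    rfl
  have h5 := card_NQ_congr h4
  rw [card_NQ E] at h5
  exact h5.symm

end Cfsg.Agent.H966.TI
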