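import Cfsg.Agent.H265.J4LP.Defs

/-!
# The number of classes of `SL(2,3).10` (S4819, S4820: `N(P)/P` for `J₄`, `p = 11`)

`card_classes` : `Q` with a normal subgroup `SL(2,3)` and cyclic quotient `(ZMod 11)ˣ` such that the elements over squares
act by inner automorphisms and the others by the outer one: `Q` has 40 conjugacy classes.
-/

set_option autoImplicit false
set_option linter.unusedSectionVars false

namespace Cfsg.Agent.H966.TI

open Cfsg.Agent.H265.J4LP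

/-- the action on `SL(2,3)` -/
def fu (u : (ZMod 11)ˣ) (s : SL) : SL := if u ^ 5 = 1 then s else sw s

section

variable {Q : Type*} [Group Q] [Finite Q] (π : Q →* (ZMod 11)ˣ)

/-- commuting pairs over `(u, v)` -/
noncomputable def Mc (u v : (ZMod 11)ˣ) : ℕ := Nat.card {p : Q × Q // Commute p.1 p.2 ∧ π p.1 = u ∧ π p.2 = v}

theorem Mc_swap (u v : (ZMod 11)ˣ) : Mc π u v = Mc π v u :=
  Nat.card_congr
    { toFun := fun p => ⟨(p.1.2, p.1.1), p.2.1.symm, p.2.2.2, p.2.2.1⟩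
      invFun := fun p => ⟨(p.1.2, p.1.1), p.2.1.symm, p.2.2.2, p.2.2.1⟩
      left_inv := fun _ => rfl
      right_inv := fun _ => rfl }

theorem Mc_mul (u v : (ZMod 11)ˣ) : Mc π u (u * v) = Mc π u v :=
  Nat.card_congr
    { toFun := fun p => ⟨(p.1.1, p.1.1⁻¹ * p.1.2), (Commute.refl p.1.1).inv_right.mul_right p.2.1, p.2.2.1, by
        show π (p.1.1⁻¹ * p.1.2) = v
        rw [map_mul, map_inv, p.2.2.1, p.2.2.2, inv_mul_cancel_left]⟩
      invFun := fun p => ⟨(p.1.1, p.1.1 * p.1.2), (Commute.refl p.1.1).mul_right p.2.1, p.2.2.1, by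
        show π (p.1.1 * p.1.2) = u * v
        rw [map_mul, p.2.2.1, p.2.2.2]⟩
      left_inv := fun p => Subtype.ext (Prod.ext rfl (mul_inv_cancel_left _ _))
      right_inv := fun p => Subtype.ext (Prod.ext rfl (inv_mul_cancel_left _ _)) }

theorem Mc_pow (u v : (ZMod 11)ˣ) (k : ℕ) : Mc π u (u ^ k * v) = Mc π u v := by
  induction k with
  | zero => rw [pow_zero, one_mul]
  | succ k ih => rw [pow_succ', mul_assoc, Mc_mul, ih]

theorem Mc_gcd (g : (ZMod 11)ˣ) (i j : ℕ) : Mc π (g ^ i) (g ^ j) = Mc π (g ^ Nat.gcd i j) 1 := by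
  induction i, j using Nat.gcd.induction with
  | H0 j => rw [Nat.gcd_zero_left, pow_zero, Mc_swap]
  | H1 i j hi ih =>
    have h1 : g ^ j = (g ^ i) ^ (j / i) * g ^ (j % i) := by
      rw [← pow_mul, ← pow_add, Nat.div_add_mod]
    rw [h1, Mc_pow, Mc_swap, ih, Nat.gcd_rec i j]

variable (φ : SL →* Q)

theorem Mc_one (hφ : Function.Injective φ) (hker : ∀ q, π q = 1 ↔ q ∈ φ.range)
    (hact : ∀ u s, ∃ q, π q = u ∧ q * φ s * q⁻¹ = φ (fu u s)) (u : (ZMod 11)ˣ) :
    Mc π u 1 = Nat.card {p : SL × SL // p.2 * fu u p.1 = p.1 * p.2} := by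
  choose q hq hq' using hact u
  symm
  unfold Mc
  have hs : ∀ s, π (φ s) = 1 := fun s => (hker _).2 ⟨s, rfl⟩
  refine Nat.card_eq_of_bijective (fun p : {p : SL × SL // p.2 * fu u p.1 = p.1 * p.2} =>
    (⟨(φ p.1.2 * q p.1.1, φ p.1.1), ?_, ?_, hs _⟩ : {p : Q × Q // Commute p.1 p.2 ∧ π p.1 = u ∧ π p.2 = 1})) ⟨?_, ?_⟩
  · show φ p.1.2 * q p.1.1 * φ p.1.1 = φ p.1.1 * (φ p.1.2 * q p.1.1)
    have h1 : q p.1.1 * φ p.1.1 = φ (fu u p.1.1) * q p.1.1 := mul_inv_eq_iff_eq_mul.1 (hq' p.1.1)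
    rw [mul_assoc, h1, ← mul_assoc, ← map_mul, p.2, map_mul, mul_assoc]
  · show π (φ p.1.2 * q p.1.1) = u
    rw [map_mul, hs, one_mul, hq]
  · rintro ⟨⟨s, g⟩, h⟩ ⟨⟨s', g'⟩, h'⟩ he
    have h1 : φ g * q s = φ g' * q s' := congrArg (fun x => x.1.1) he
    have h2 : φ s = φ s' := congrArg (fun x => x.1.2) he
    have h3 := hφ h2
    subst h3
    have h4 := hφ (mul_right_cancel h1)
    subst h4
    rfl
  · rintro ⟨⟨a, b⟩, hab, ha, hb⟩
    obtain ⟨s, rfl⟩ := (hker b).1 hb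
    obtain ⟨g, hg⟩ := (hker (a * (q s)⁻¹)).1 (by
      show π (a * (q s)⁻¹) = 1
      rw [map_mul, map_inv, hq]
      show π a * u⁻¹ = 1
      have : π a = u := ha
      rw [this, mul_inv_cancel])
    have hg' : a = φ g * q s := by rw [hg, inv_mul_cancel_right]
    refine ⟨⟨(s, g), ?_⟩, Subtype.ext (Prod.ext hg'.symm rfl)⟩
    apply hφ
    have h1 : q s * φ s = φ (fu u s) * q s := mul_inv_eq_iff_eq_mul.1 (hq' s)
    have h2 : a * φ s = φ s * a := hab
    rw [hg', mul_assoc, h1, ← mul_assoc, ← mul_assoc] at h2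
    show φ (g * fu u s) = φ (s * g)
    rw [map_mul, map_mul]
    exact mul_right_cancel h2

theorem cc_even : (Finset.univ.filter fun p : SL × SL => p.2 * p.1 = p.1 * p.2).card = 168 := by decide +kernel
theorem cc_odd : (Finset.univ.filter fun p : SL × SL => p.2 * sw p.1 = p.1 * p.2).card = 72 := by decide +kernel

theorem card_fu (u : (ZMod 11)ˣ) : Nat.card {p : SL × SL // p.2 * fu u p.1 = p.1 * p.2} =
    if u ^ 5 = 1 then 168 else 72 := by
  unfold fu
  split_ifs with h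
  · rw [← cc_even, ← Fintype.card_subtype, ← Nat.card_eq_fintype_card]
  · rw [← cc_odd, ← Fintype.card_subtype, ← Nat.card_eq_fintype_card]

/-- a generator of `(ZMod 11)ˣ` -/
def g2 : (ZMod 11)ˣ := ⟨2, 6, by decide, by decide⟩

theorem exists_g2 : ∀ u : (ZMod 11)ˣ, ∃ i : Fin 10, g2 ^ (i : ℕ) = u := by decide +kernel

theorem g2_pow_five : ∀ i : ℕ, (g2 ^ i) ^ 5 = 1 ↔ 2 ∣ i := by
  intro i
  rw [← pow_mul, ← orderOf_dvd_iff_pow_eq_one]
  have h1 : orderOf g2 = 10 := by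
    rw [orderOf_eq_iff (by norm_num)]
    refine ⟨by decide +kernel, ?_⟩
    have : ∀ m : Fin 10, 0 < (m : ℕ) → g2 ^ (m : ℕ) ≠ 1 := by decide +kernel
    intro m hm h0
    exact this ⟨m, hm⟩ h0
  rw [h1]
  omega

theorem Mc_eq (hφ : Function.Injective φ) (hker : ∀ q, π q = 1 ↔ q ∈ φ.range)
    (hact : ∀ u s, ∃ q, π q = u ∧ q * φ s * q⁻¹ = φ (fu u s)) (u v : (ZMod 11)ˣ) :
    Mc π u v = if u ^ 5 = 1 ∧ v ^ 5 = 1 then 168 else 72 := by
  obtain ⟨i, rfl⟩ := exists_g2 u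
  obtain ⟨j, rfl⟩ := exists_g2 v
  rw [Mc_gcd, Mc_one π φ hφ hker hact, card_fu]
  congr 1
  rw [g2_pow_five, g2_pow_five, g2_pow_five, Nat.dvd_gcd_iff]

/-- **`k(SL(2,3).10) = 40`** -/
theorem card_classes (hφ : Function.Injective φ) (hker : ∀ q, π q = 1 ↔ q ∈ φ.range)
    (hact : ∀ u s, ∃ q, π q = u ∧ q * φ s * q⁻¹ = φ (fu u s)) : Nat.card (ConjClasses Q) = 40 := by
  -- the order of `Q`
  have hcard : Nat.card Q = 240 := by
    have h1 : Nat.card π.ker = 24 := by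
      have h2 : π.ker = φ.range := by
        ext q
        rw [MonoidHom.mem_ker]
        exact hker q
      rw [h2, ← Nat.card_congr (MonoidHom.ofInjective hφ).toEquiv, Nat.card_eq_fintype_card]
      decide +kernel
    have h2 : π.ker.index = 10 := by
      rw [Subgroup.index_ker]
      have h3 : π.range = ⊤ := MonoidHom.range_eq_top.2 fun u => ⟨_, (hact u 1).choose_spec.1⟩
      rw [h3, Subgroup.card_top, Nat.card_eq_fintype_card]
      decide +kernel
    rw [← π.ker.card_mul_index, h1, h2]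
  -- the number of commuting pairs
  have h1 := card_comm_eq_card_conjClasses_mul_card Q
  have h2 : Nat.card {p : Q × Q // Commute p.1 p.2} = ∑ w : (ZMod 11)ˣ × (ZMod 11)ˣ, Mc π w.1 w.2 := by
    unfold Mc
    rw [← Nat.card_sigma]
    exact Nat.card_congr
      { toFun := fun p => ⟨(π p.1.1, π p.1.2), ⟨p.1, p.2, rfl, rfl⟩⟩
        invFun := fun p => ⟨p.2.1, p.2.2.1⟩
        left_inv := fun _ => rfl
        right_inv := by
          rintro ⟨⟨u, v⟩, ⟨⟨a, b⟩, h, h', h''⟩⟩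
          dsimp only at h' h''
          subst h' h''
          rfl }
  have h3 : ∑ w : (ZMod 11)ˣ × (ZMod 11)ˣ, Mc π w.1 w.2 = 9600 := by
    rw [Finset.sum_congr rfl fun w _ => Mc_eq π φ hφ hker hact w.1 w.2]
    decide +kernel
  rw [h2, h3, hcard] at h1
  omega

end

end Cfsg.Agent.H966.TI
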