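import Cfsg.Agent.H966.TI.J4Norm
import Cfsg.Agent.H34.TI.Defs

/-!
# `k(N(P)) = 49` for `J₄`, `p = 11` (S4819, S4820, [LOC])
-/

set_option autoImplicit false
set_option linter.unusedSectionVars false

namespace Cfsg.Agent.H966.TI

open Cfsg.Agent.H265.J4LP Subgroup Cfsg.Agent.H34.TI

universe u

/-- nine classes of elements of order divisible by 11 -/
theorem card_Sing {G : Type u} [Group G] [Finite G] {D : Data11 G} (E : Eleven D) : Nat.card (Sing 11 G) = 9 := by
  have hout : ∀ c : ConjClasses G, ConjClasses.mk c.out = c := fun c => Quotient.out_eq' c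
  have hord : ∀ {a b : G}, IsConj a b → orderOf a = orderOf b := by
    intro a b h
    obtain ⟨g, rfl⟩ := isConj_iff.1 h
    exact ((MulAut.conj g).orderOf_eq a).symm
  have h11 : ∀ j, 11 ∣ orderOf (D.rep j) := by
    intro j
    rw [E.ord_rep]
    revert j
    decide
  have h9 : Nat.card (Fin 9) = 9 := by rw [Nat.card_eq_fintype_card, Fintype.card_fin]
  rw [← h9]
  symm
  refine Nat.card_eq_of_bijective (fun j => (⟨ConjClasses.mk (D.rep j), by
    have h1 : IsConj (ConjClasses.mk (D.rep j)).out (D.rep j) := ConjClasses.mk_eq_mk_iff_isConj.1 (hout _)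
    rw [hord h1]
    exact h11 j⟩ : Sing 11 G)) ⟨?_, ?_⟩
  · intro i j he
    exact E.rep_inj i j (ConjClasses.mk_eq_mk_iff_isConj.1 (congrArg Subtype.val he))
  · rintro ⟨c, hc⟩
    obtain ⟨j, hj⟩ := E.exhaust _ hc
    refine ⟨j, Subtype.ext ?_⟩
    show ConjClasses.mk (D.rep j) = c
    rw [← hout c]
    exact ConjClasses.mk_eq_mk_iff_isConj.2 hj.symm

/-- `k(N(P)) = 49` -/
theorem card_N (L : LocGen.{u}) [Fact (Nat.Prime 11)] {G : Type u} [Group G] [Finite G] {D : Data11 G} (E : Eleven D)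
    (P : Sylow 11 G) (hP : Nat.card (P : Subgroup G) = 1331) (hTI : IsTI (P : Subgroup G)) :
    Nat.card (ConjClasses (normalizer ((P : Subgroup G) : Set G))) = 49 := by
  rw [L 11 G P hTI, card_NP E P hP, card_Sing E]

/-- `J₄` : `k(G) = 62` and 13 characters of 11-defect zero give `Cnt` -/
theorem cnt_of (L : LocGen.{u}) [Fact (Nat.Prime 11)] {G : Type u} [Group G] [Finite G] {D : Data11 G} (E : Eleven D)
    (hG : (Nat.card G).factorization 11 = 3) (hk : Nat.card (ConjClasses G) = 62)
    (hdz : Nat.card {χ : Cfsg.IrrCharacter G // IsDz 11 χ} = 13) : Cnt 11 G := by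
  intro P hTI
  have hP : Nat.card (P : Subgroup G) = 1331 := by
    rw [P.card_eq_multiplicity, hG]
    norm_num
  rw [card_N L E P hP hTI, hk, hdz]

end Cfsg.Agent.H966.TI
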