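import Cfsg.Agent.H681.TI.McLRow
import Cfsg.Agent.H265.J4LP.ElevenMain
import Cfsg.Agent.S2042
import Cfsg.Agent.S2068
import Cfsg.Agent.H858.FixJ4

/-!
# S4819 / S4820: the row `J₄`, `p = 11`, from the count (helper966)

* `eq_one_of_cent` : the 11'-elements of `J₄` centralizing a Sylow 11-subgroup are trivial;
* `rowJ4_of` : `RowJ4` from `Cnt 11` for the groups isomorphic to `J₄`.
-/

set_option autoImplicit false

open Cfsg
open scoped Pointwise

namespace Cfsg.Agent.H966.TI

open Subgroup Cfsg.Agent.H265.J4LP Cfsg.Agent.H681.TI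
open Cfsg.Agent.H723.TI (RowJ4)
open Cfsg.Agent.H34.TI (Cnt)

universe u

theorem card_cent_equiv {G H : Type*} [Group G] [Group H] (e : G ≃* H) (x : G) :
    Nat.card (centralizer ({e x} : Set H)) = Nat.card (centralizer ({x} : Set G)) := by
  refine Nat.card_congr ⟨fun y => ⟨e.symm y, ?_⟩, fun y => ⟨e y, ?_⟩, fun y => ?_, fun y => ?_⟩
  · have h := mem_centralizer_singleton_iff.1 y.2
    rw [mem_centralizer_singleton_iff]
    apply e.injective
    rw [map_mul, map_mul, MulEquiv.apply_symm_apply]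
    exact h
  · have h := mem_centralizer_singleton_iff.1 y.2
    rw [mem_centralizer_singleton_iff, ← map_mul, h, map_mul]
  · exact Subtype.ext (e.apply_symm_apply _)
  · exact Subtype.ext (e.symm_apply_apply _)

/-- the 11'-elements centralizing the Sylow subgroup `P` are trivial -/
theorem eq_one_of_centP {G : Type*} [Group G] [Finite G] {D : Data11 G} (E : Eleven D) {y : G}
    (hy : ∀ u ∈ D.P, u * y = y * u) (h11 : ¬ 11 ∣ orderOf y) : y = 1 := by
  have hp : Nat.Prime 11 := by norm_num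
  have hzy : Commute D.z y := hy _ E.z_mem
  have hcop : Nat.Coprime (orderOf D.z) (orderOf y) := by
    rw [E.ord_z]
    exact (Nat.Prime.coprime_iff_not_dvd hp).2 h11
  have h1 : orderOf (D.z * y) = 11 * orderOf y := by
    rw [hzy.orderOf_mul_eq_mul_orderOf_of_coprime hcop, E.ord_z]
  obtain ⟨j, hj⟩ := E.exhaust (D.z * y) ⟨_, h1⟩
  have h2 : D.P ≤ centralizer ({D.z * y} : Set G) := by
    intro u hu
    rw [mem_centralizer_singleton_iff, ← mul_assoc, ← E.z_comm u hu, mul_assoc, hy u hu, mul_assoc]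
  have h3 : 1331 ∣ Nat.card (centralizer ({D.rep j} : Set G)) := by
    have h4 : Nat.card (centralizer ({D.z * y} : Set G)) = Nat.card (centralizer ({D.rep j} : Set G)) := by
      obtain ⟨g, hg⟩ := isConj_iff.1 hj
      rw [← hg]
      exact (card_cent_equiv (MulAut.conj g) (D.z * y)).symm
    rw [← h4, ← E.card_P]
    exact card_dvd_of_le h2
  have key : ∀ j : Fin 9, 1331 ∣ (![31944, 242, 264, 22, 66, 66, 44, 66, 66] : Fin 9 → ℕ) j → j = 0 := by decide
  have h4 : j = 0 := by
    rw [E.card_cent j] at h3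
    exact key j h3
  have h5 : orderOf (D.z * y) = 11 := by
    obtain ⟨g, hg⟩ := isConj_iff.1 hj
    have h6 : orderOf (D.rep j) = orderOf (D.z * y) := by
      rw [← hg]
      exact (MulAut.conj g).orderOf_eq _
    rw [← h6, E.ord_rep j, h4]
    rfl
  rw [h1] at h5
  have h6 : orderOf y = 1 := by omega
  exact orderOf_eq_one_iff.1 h6

/-- the same for every Sylow subgroup -/
theorem eq_one_of_cent {G : Type*} [Group G] [Finite G] {D : Data11 G} (E : Eleven D) [Fact (Nat.Prime 11)]
    (hG : (Nat.card G).factorization 11 = 3) (R : Sylow 11 G) {y : G} (hy : y ∈ centralizer ((R : Subgroup G) : Set G))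
    (h11 : ¬ 11 ∣ orderOf y) : y = 1 := by
  let P : Sylow 11 G := Sylow.ofCard D.P (by rw [E.card_P, hG]; norm_num)
  obtain ⟨g, hg⟩ := MulAction.exists_smul_eq G R P
  have h1 : ∀ u ∈ D.P, g⁻¹ * u * g ∈ (R : Subgroup G) := by
    intro u hu
    have h3 : ((g • R : Sylow 11 G) : Subgroup G) = D.P := by rw [hg]; rfl
    rw [← h3, Sylow.coe_subgroup_smul, mem_pointwise_smul_iff_inv_smul_mem, ← map_inv, MulAut.smul_def,
      MulAut.conj_apply, inv_inv] at hu
    exact hu
  have h2 : g * y * g⁻¹ = 1 := by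
    apply eq_one_of_centP E
    · intro u hu
      have h3 := mem_centralizer_iff.1 hy _ (h1 u hu)
      calc u * (g * y * g⁻¹) = g * (g⁻¹ * u * g * y) * g⁻¹ := by group
        _ = g * (y * (g⁻¹ * u * g)) * g⁻¹ := by rw [h3]
        _ = g * y * g⁻¹ * u := by group
    · have h3 : orderOf (g * y * g⁻¹) = orderOf y := (MulAut.conj g).orderOf_eq y
      rwa [h3]
  have h3 : y = g⁻¹ * (g * y * g⁻¹) * g := by group
  rw [h3, h2]
  group

theorem card_fac : (Nat.card Spor.J4).factorization 11 = 3 := by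
  rw [H858.FixJ4.card_J4, show (86775571046077562880 : ℕ) = 11 ^ 3 * 65195770883604480 by norm_num,
    Nat.factorization_mul (by norm_num) (by norm_num), Nat.Prime.factorization_pow (by norm_num)]
  simp [Nat.factorization_eq_zero_of_not_dvd]

/-- **the row `J₄`** -/
theorem rowJ4_of (hc : ∀ (H : Type u) [Group H] [Finite H], Nonempty (H ≃* Spor.J4) → Cnt 11 H) : RowJ4.{u} := by
  have hp : Fact (Nat.Prime 11) := ⟨by norm_num⟩
  have htop : ∀ (H : Type u) [Group H] [Finite H] (S : Subgroup H), Alm S → Spor.IsoJ4 S → S.index = 1 := by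
    intro H _ _ S hA hS
    obtain ⟨e⟩ := hS
    have h1 := hA.index_dvd e
    rw [Cfsg.Agent.S2068.result] at h1
    exact Nat.dvd_one.1 h1
  have hiso : ∀ (H : Type u) [Group H] [Finite H] (S : Subgroup H), Alm S → Spor.IsoJ4 S → Nonempty (H ≃* Spor.J4) := by
    intro H _ _ S hA hS
    have h1 := index_eq_one.1 (htop H S hA hS)
    obtain ⟨e⟩ := hS
    rw [h1] at e
    exact ⟨Subgroup.topEquiv.symm.trans e⟩
  have hE := El.eleven
  have hfin : Finite Spor.J4 := H858.FixJ4.facts.1
  refine row_of 11 (fun S _ => Spor.IsoJ4 S) ?_ ?_ ?_ ?_ ?_ ?_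
  · intro S S' _ _ e h
    obtain ⟨f⟩ := h
    exact ⟨e.symm.trans f⟩
  · intro S _ _ h
    obtain ⟨e⟩ := h
    rw [Nat.card_congr e.toEquiv]
    have h1 := hE.ord_z
    rw [← h1]
    exact orderOf_dvd_natCard _
  · exact fun H _ _ S hA hS => Or.inl (htop H S hA hS)
  · intro H _ _ S hA hS R hR x hx h11
    obtain ⟨e⟩ := hiso H S hA hS
    apply e.injective
    rw [map_one]
    refine eq_one_of_cent hE card_fac (R.mapSurjective (f := e.toMonoidHom) e.surjective) (y := e x) ?_ ?_
    · rw [mem_centralizer_iff]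
      rintro _ ⟨u, hu, rfl⟩
      have h1 := mem_centralizer_iff.1 hx u hu
      show e u * e x = e x * e u
      rw [← map_mul, h1, map_mul]
    · rwa [e.orderOf_eq]
  · intro S _ h
    obtain ⟨e⟩ := h
    exact ⟨Spor.J4, inferInstance, ⟨e⟩, Cfsg.Agent.S2042.result⟩
  · exact fun H _ _ S hA hS => hc H (hiso H S hA hS)

end Cfsg.Agent.H966.TI
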