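import Cfsg.Agent.H966.TI.RowJ4
import Cfsg.Agent.H735.J4C.Fin9

/-!
# S4819 / S4820: the row `J₄` (helper966, count by helper735)
-/

set_option autoImplicit false

namespace Cfsg.Agent.H966.TI

universe u

/-- **the row `J₄` of S4819 / S4820** -/
theorem rowJ4 : Cfsg.Agent.H723.TI.RowJ4.{u} :=
  rowJ4_of fun _ _ _ h => Cfsg.Agent.H735.J4C.cnt_of_isoJ4 h

end Cfsg.Agent.H966.TI
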